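import Cfsg.Agent.H508.KB.Defs
import Cfsg.Agent.H978.Alm.Nonab
import Cfsg.Agent.H621.SymDeg.Chars
import Cfsg.Agent.H656.OverPrincipal
import Cfsg.Agent.H133.PB.Basic

/-!
# S4822, T1c0 and T1c: characters of `G` over characters of `N_G(T)` inflated from `A`
-/

set_option autoImplicit false

open Cfsg Subgroup Cfsg.Agent.H508.KB
open Cfsg.Agent.Lib.MinNormalNonabelian Cfsg.Agent.H531.LemX
open scoped ComplexConjugate

namespace Cfsg.Agent.H590.KB

open Cfsg.Agent.Characters.Core

universe u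

variable {p : ℕ} [Fact p.Prime] {M : Ideal AlgInt}

/-- T1c0: an irreducible character of `G` lies over at most `|G : U|` irreducible characters of `U` -/
theorem card_under_le {G : Type u} [Group G] [Finite G] (U : Subgroup G) (χ : IrrCharacter G) :
    Nat.card {θ : IrrCharacter U // Over U χ θ} ≤ U.index := by
  classical
  have := Fintype.ofFinite G
  have := Fintype.ofFinite U
  have := finite_irr (G := U)
  have := Fintype.ofFinite (IrrCharacter U)
  obtain ⟨a, ha0, ha⟩ := isIrr_apply_one χ.2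
  choose b hb0 hb using fun θ : IrrCharacter U => isIrr_apply_one θ.2
  obtain ⟨m, hm⟩ := exists_nat_comb (isCharacter_comp U.subtype (isIrr_isCharacter χ.2))
  have hm1 : a = ∑ θ : IrrCharacter U, m θ * b θ := by
    have h1 := congrFun hm 1
    rw [Function.comp_apply, map_one, ha, Finset.sum_apply] at h1
    have h2 : (a : ℂ) = ((∑ θ : IrrCharacter U, m θ * b θ : ℕ) : ℂ) := by
      rw [h1]
      push_cast
      refine Finset.sum_congr rfl fun θ _ => ?_
      rw [Pi.smul_apply, hb, nsmul_eq_mul]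
    exact_mod_cast h2
  have key : ∀ θ : IrrCharacter U, Over U χ θ → a ≤ U.index * b θ ∧ 1 ≤ m θ := by
    intro θ hθ
    rw [over_iff] at hθ
    refine ⟨H621.SymDeg.degree_le_index_mul U χ.2 θ.2 hθ ha (hb θ), ?_⟩
    rw [Nat.one_le_iff_ne_zero]
    intro h0
    apply hθ
    have h1 : (fun n : U => (χ : G → ℂ) n) = ∑ θ : IrrCharacter U, m θ • (θ : U → ℂ) := hm
    rw [h1, classInner_sum_nsmul_irr, h0, Nat.cast_zero]
  rw [Nat.card_eq_fintype_card, Fintype.card_subtype]
  set S := Finset.univ.filter fun θ : IrrCharacter U => Over U χ θ with hS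
  have h1 : S.card * a ≤ U.index * a := by
    calc S.card * a = ∑ θ ∈ S, a := by rw [Finset.sum_const, smul_eq_mul]
      _ ≤ ∑ θ ∈ S, U.index * (m θ * b θ) := by
        refine Finset.sum_le_sum fun θ hθ => ?_
        obtain ⟨h2, h3⟩ := key θ (Finset.mem_filter.1 hθ).2
        refine h2.trans (Nat.mul_le_mul_left _ ?_)
        exact Nat.le_mul_of_pos_left _ h3
      _ = U.index * ∑ θ ∈ S, m θ * b θ := by rw [Finset.mul_sum]
      _ ≤ U.index * a := by
        refine Nat.mul_le_mul_left _ ?_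
        rw [hm1]
        exact Finset.sum_le_sum_of_subset (Finset.subset_univ _)
  exact Nat.le_of_mul_le_mul_right h1 ha0

open Cfsg.Agent.H978.Alm.Nonab

attribute [local instance] Cfsg.Agent.H531.Red.act

variable {G : Type u} [Group G] [Finite G] {N : Subgroup G} [N.Normal] {T : minSet N} {A : Type u} [Group A] [Finite A]
  {π : ↥(normalizer (T.1 : Set G)) →* A}

omit [Finite A] in
/-- the number of components is the index of the normalizer of one of them -/
theorem index_normalizer (D : Dat N T π) : (normalizer (T.1 : Set G)).index = Nat.card (minSet N) := by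
  have h1 : MulAction.stabilizer G T = normalizer (T.1 : Set G) := by
    ext g
    rw [MulAction.mem_stabilizer_iff, mem_normalizer_iff_smul]
  rw [← h1, MulAction.index_stabilizer]
  have h2 : MulAction.orbit G T = Set.univ := by
    rw [Set.eq_univ_iff_forall]
    intro S
    obtain ⟨g, hg⟩ := D.str.trans T S
    exact ⟨g, hg⟩
  rw [h2, Set.ncard_univ]

omit [Finite G] in
/-- a Sylow `p`-subgroup lies in a normal subgroup of index prime to `p` -/
theorem sylow_le (P : Sylow p G) (hcop : ¬ p ∣ N.index) : (P : Subgroup G) ≤ N := by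
  intro x hx
  rw [← QuotientGroup.eq_one_iff]
  obtain ⟨k, hk⟩ := P.isPGroup' ⟨x, hx⟩
  have hk' : x ^ p ^ k = 1 := congrArg Subtype.val hk
  have h3 : ((x : G) : G ⧸ N) ^ (p ^ k) = 1 := by
    rw [← QuotientGroup.mk_pow, hk', QuotientGroup.mk_one]
  have h4 := orderOf_dvd_of_pow_eq_one h3
  have h5 : orderOf ((x : G) : G ⧸ N) ∣ N.index := orderOf_dvd_natCard _
  have h6 := Nat.dvd_gcd h4 h5
  rw [Nat.Coprime.pow_left k ((Nat.Prime.coprime_iff_not_dvd Fact.out).2 hcop), Nat.dvd_one] at h6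
  exact orderOf_eq_one_iff.1 h6

omit [Finite A] in
/-- `χ` over `λ ∘ π`, `λ` trivial on the image of `T`: `χ` lies over `1_N` -/
theorem nt_zero (D : Dat N T π) (lam : IrrCharacter A)
    (hlam : ∀ s ∈ Im π, (lam : A → ℂ) s = (lam : A → ℂ) 1) (χ : IrrCharacter G)
    (hχ : Over (normalizer (T.1 : Set G)) χ ⟨(lam : A → ℂ) ∘ π, isIrr_comp π D.surj lam.2⟩) : NT N χ 0 := by
  classical
  have := Fintype.ofFinite G
  have := Fintype.ofFinite N
  have := Fintype.ofFinite (normalizer (T.1 : Set G))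
  have hNU : N ≤ normalizer (T.1 : Set G) := le_norm
  have := finite_irr (G := normalizer (T.1 : Set G))
  have := Fintype.ofFinite (IrrCharacter (normalizer (T.1 : Set G)))
  obtain ⟨m, hm⟩ := exists_nat_comb (isCharacter_comp (normalizer (T.1 : Set G)).subtype (isIrr_isCharacter χ.2))
  set μ : IrrCharacter (normalizer (T.1 : Set G)) := ⟨(lam : A → ℂ) ∘ π, isIrr_comp π D.surj lam.2⟩ with hμ
  have hmμ : m μ ≠ 0 := by
    intro h0
    rw [over_iff] at hχ
    apply hχ
    have h1 : (fun n : normalizer (T.1 : Set G) => (χ : G → ℂ) n) = ∑ θ : IrrCharacter (normalizer (T.1 : Set G)), m θ • (θ : normalizer (T.1 : Set G) → ℂ) := hm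
    rw [h1, classInner_sum_nsmul_irr, h0, Nat.cast_zero]
  refine ⟨⟨1, isIrr_one⟩, ?_, ?_⟩
  · rw [over_iff]
    have hk : ∀ η : IrrCharacter (normalizer (T.1 : Set G)), ∃ k : ℕ,
        classInner (fun n : N => (η : normalizer (T.1 : Set G) → ℂ) ⟨n, hNU n.2⟩) (1 : N → ℂ) = k := fun η =>
      classInner_isNat (isCharacter_comp (Subgroup.inclusion hNU) (isIrr_isCharacter η.2))
        (isIrr_isCharacter isIrr_one)
    choose k hk using hk
    have h4 : classInner (fun n : N => (χ : G → ℂ) n) (1 : N → ℂ) =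
        ((∑ η : IrrCharacter (normalizer (T.1 : Set G)), m η * k η : ℕ) : ℂ) := by
      have e : (fun n : N => (χ : G → ℂ) n) =
          ∑ η : IrrCharacter (normalizer (T.1 : Set G)), (m η : ℂ) • (fun n : N => (η : normalizer (T.1 : Set G) → ℂ) ⟨n, hNU n.2⟩) := by
        funext n
        have h1 := congrFun hm ⟨n, hNU n.2⟩
        rw [Finset.sum_apply] at h1 ⊢
        refine Eq.trans ?_ (h1.trans ?_)
        · rfl
        · refine Finset.sum_congr rfl fun η _ => ?_
          rw [Pi.smul_apply, Pi.smul_apply, nsmul_eq_mul, smul_eq_mul]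
      rw [e, classInner_sum_left]
      push_cast
      refine Finset.sum_congr rfl fun η _ => ?_
      rw [classInner_smul_left, hk]
    have h5 : k μ ≠ 0 := by
      intro h0
      have h6 := hk μ
      rw [h0, Nat.cast_zero] at h6
      have h7 : (fun n : N => (μ : normalizer (T.1 : Set G) → ℂ) ⟨n, hNU n.2⟩) = (lam : A → ℂ) 1 • (1 : N → ℂ) := by
        funext n
        rw [Pi.smul_apply, Pi.one_apply, smul_eq_mul, mul_one]
        exact hlam _ (D.map_of_mem n.2)
      rw [h7, classInner_smul_left, classInner_irr_self isIrr_one, mul_one] at h6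
      exact isIrr_apply_one_ne_zero lam.2 h6
    show classInner (fun n : N => (χ : G → ℂ) n) (1 : N → ℂ) ≠ 0
    rw [h4, Nat.cast_ne_zero]
    intro h8
    exact Nat.mul_ne_zero hmμ h5 ((Finset.sum_eq_zero_iff.1 h8) μ (Finset.mem_univ _))
  · have : IsEmpty {V : minSet N // ∃ n : N, (n : G) ∈ V.1 ∧ (1 : N → ℂ) n ≠ (1 : N → ℂ) 1} :=
      ⟨fun V => by obtain ⟨n, -, h⟩ := V.2; exact h rfl⟩
    exact Nat.card_of_isEmpty

/-- T1c -/
theorem ker_le_mul (hM : IsPModular p M) (D : Dat N T π) [(Im π).Normal] (hcop : ¬ p ∣ N.index)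
    (_hdN : p ∣ Nat.card N) :
    ker M (Im π) ≤ Nat.card (minSet N) * Nat.card {χ : IrrCharacter G // χ ∈ principalBlock M G ∧ NT N χ 0} := by
  classical
  have := Blocks.Local.isPrime_of_isPModular hM
  have := Fintype.ofFinite (normalizer (T.1 : Set G))
  have := finite_irr (G := G)
  have := finite_irr (G := normalizer (T.1 : Set G))
  obtain ⟨P⟩ : Nonempty (Sylow p G) := inferInstance
  have hPU : (P : Subgroup G) ≤ normalizer ((normalizer (T.1 : Set G) : Subgroup G) : Set G) :=
    (sylow_le P hcop).trans ((le_norm (T := T)).trans le_normalizer)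
  have key : ∀ lam : {χ : IrrCharacter A // χ ∈ principalBlock M A ∧ ∀ s ∈ Im π, (χ : A → ℂ) s = (χ : A → ℂ) 1},
      ∃ χ : {χ : IrrCharacter G // χ ∈ principalBlock M G ∧ NT N χ 0},
        Over (normalizer (T.1 : Set G)) χ.1 ⟨(lam.1 : A → ℂ) ∘ π, isIrr_comp π D.surj lam.1.2⟩ := by
    rintro ⟨lam, h1, h2⟩
    have h3 := H133.PB.mem_principalBlock_comp (M := M) π D.surj h1
    obtain ⟨χ, hχ, h4⟩ := H656.OverPrincipal.exists_over hM (normalizer (T.1 : Set G)) P hPU _ h3
    have h5 : Over (normalizer (T.1 : Set G)) χ ⟨(lam : A → ℂ) ∘ π, isIrr_comp π D.surj lam.2⟩ := over_iff.2 h4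
    exact ⟨⟨χ, hχ, nt_zero D lam h2 χ h5⟩, h5⟩
  choose f hf using key
  let g : {χ : IrrCharacter A // χ ∈ principalBlock M A ∧ ∀ s ∈ Im π, (χ : A → ℂ) s = (χ : A → ℂ) 1} →
      (Σ χ : {χ : IrrCharacter G // χ ∈ principalBlock M G ∧ NT N χ 0}, {θ : IrrCharacter (normalizer (T.1 : Set G)) // Over (normalizer (T.1 : Set G)) χ.1 θ}) :=
    fun lam => ⟨f lam, ⟨_, hf lam⟩⟩
  have hg : Function.Injective g := by
    intro a b hab
    have h1 : (g a).2.1 = (g b).2.1 := by rw [hab]
    apply Subtype.ext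
    apply Subtype.ext
    funext x
    obtain ⟨u, rfl⟩ := D.surj x
    exact congrFun (congrArg Subtype.val h1) u
  have := Fintype.ofFinite {χ : IrrCharacter G // χ ∈ principalBlock M G ∧ NT N χ 0}
  have h1 := Nat.card_le_card_of_injective g hg
  refine h1.trans ?_
  rw [Nat.card_sigma, ← index_normalizer D, mul_comm]
  calc ∑ χ : {χ : IrrCharacter G // χ ∈ principalBlock M G ∧ NT N χ 0}, Nat.card {θ : IrrCharacter (normalizer (T.1 : Set G)) // Over (normalizer (T.1 : Set G)) χ.1 θ}
      ≤ ∑ χ : {χ : IrrCharacter G // χ ∈ principalBlock M G ∧ NT N χ 0}, (normalizer (T.1 : Set G)).index :=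
        Finset.sum_le_sum fun χ _ => card_under_le _ χ.1
    _ = _ := by rw [Finset.sum_const, smul_eq_mul, Finset.card_univ, Nat.card_eq_fintype_card]

end Cfsg.Agent.H590.KB
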